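import Groth.Agent.LeadProper.Basic
import Groth.Agent.LeadDev.Rules
import Groth.Agent.H29Fitt.Comap

/-!
# Modules on closed subschemes; supports of modules of finite type
-/

set_option autoImplicit false
set_option linter.style.haveILetI false
set_option linter.unusedSectionVars false

universe u

open CategoryTheory CategoryTheory.Limits AlgebraicGeometry TopologicalSpace Opposite

namespace Groth.Agent.LeadProper

variable {X : Scheme.{u}} (F : X.Modules) (hF : Coh.IsQCoh F)

include hF

/-- A quasi-coherent module killed by the ideal of a closed immersion is a direct image. -/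
theorem isIso_unit_of_killedByIdeal {Z : Scheme.{u}} (i : Z ⟶ X) [IsClosedImmersion i]
    (hk : ClSub.KilledByIdeal i.ker F) :
    IsIso ((Scheme.Modules.pullbackPushforwardAdjunction i).unit.app F) := by
  haveI : ((Scheme.Modules.pullback i).obj F).IsQuasicoherent := H29Fitt.isQCoh_pullback _ F hF
  refine LeadDev.isIso_of_bijective_affine _ hF (H10Coh.isQuasicoherent_pushforward i _) fun U hU => ?_
  obtain ⟨hsurj, hker⟩ := H17.PullSect.isQuotOn_of_isAffineOpen i F hF hU
  refine ⟨(injective_iff_map_eq_zero _).2 fun m hm => ?_, hsurj⟩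
  have h0 := hker m hm
  refine Submodule.smul_induction_on h0 (fun a ha s _ => hk ⟨U, hU⟩ a ?_ s)
    (fun x y hx hy => by rw [hx, hy, add_zero])
  rw [Scheme.Hom.ker_apply]
  exact ha

variable (hft : CohB1.IsFT F)

include hft

theorem killedByIdeal_fitt : ClSub.KilledByIdeal (Fitt.sheafIdeal F 0) F := fun U a ha m => by
  haveI := H29Fitt.finite_sections F hF hft U
  rw [H29Fitt.sheafIdeal_ideal F hF hft] at ha
  exact Module.mem_annihilator.1 (H29Fitt.ideal_zero_le_annihilator ha) m

/-- The support of a module of finite type is the zero locus of its Fitting ideal. -/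
theorem support_eq_fitt : CohB1.support F = ((Fitt.sheafIdeal F 0).support : Set X) := by
  ext x
  obtain ⟨U, hU, hxU, -⟩ := exists_isAffineOpen_mem_and_subset (U := (⊤ : X.Opens)) (x := x) trivial
  haveI := H29Fitt.finite_sections F hF hft ⟨U, hU⟩
  constructor
  · intro hx
    by_contra hc
    rw [SetLike.mem_coe, H29Fitt.mem_support_iff F hF hft 0 hU ⟨x, hxU⟩, SetLike.not_le_iff_exists] at hc
    obtain ⟨a, ha, hap⟩ := hc
    refine LeadDev.notMem_support_of_smul hU hxU F hF (fun s => ⟨a, ?_, ?_⟩) hx
    · by_contra hb
      exact hap ((H17.AssPts.mem_primeIdealOf hU hxU a).2 hb)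
    · exact Module.mem_annihilator.1 (H29Fitt.ideal_zero_le_annihilator ha) s
  · intro hx
    by_contra hc
    obtain ⟨n, e, he⟩ := Module.Finite.exists_fin (R := Γ(X, U)) (M := Γ(F, U))
    choose c hc' hc0 using fun k => LeadDev.exists_unitAt_smul_eq_zero hU hxU F hF hc (e k)
    have hann : (∏ k, c k) ∈ Module.annihilator Γ(X, U) Γ(F, U) := Module.mem_annihilator.2 fun s => by
      have hs : s ∈ Submodule.span Γ(X, U) (Set.range e) := he ▸ Submodule.mem_top
      induction hs using Submodule.span_induction with
      | mem s hs =>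
        obtain ⟨k, rfl⟩ := hs
        rw [← Finset.prod_erase_mul _ c (Finset.mem_univ k), mul_smul, hc0, smul_zero]
      | zero => exact smul_zero _
      | add a b _ _ ha hb => rw [smul_add, ha, hb, add_zero]
      | smul r a _ ha => rw [smul_comm, ha, smul_zero]
    rw [SetLike.mem_coe, H29Fitt.mem_support_iff F hF hft 0 hU ⟨x, hxU⟩] at hx
    have hp := (hU.primeIdealOf ⟨x, hxU⟩).isPrime.radical_le_iff.2 hx
      (H29Fitt.annihilator_le_radical_ideal_zero hann)
    exact (H17.AssPts.mem_primeIdealOf hU hxU _).1 hp
      (Finset.prod_induction _ (LeadDev.UnitAt x U) (fun _ _ => LeadDev.UnitAt.mul) (LeadDev.unitAt_one hxU)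
        fun a _ => hc' a)

theorem support_pullback {T : Scheme.{u}} (g : T ⟶ X) :
    CohB1.support ((Scheme.Modules.pullback g).obj F) = g ⁻¹' CohB1.support F := by
  rw [support_eq_fitt _ (H29Fitt.isQCoh_pullback g F hF) (H29Fitt.isFT_pullback g F hF hft),
    ← H29Fitt.sheafIdeal_comap g F hF hft, Scheme.IdealSheafData.support_comap, support_eq_fitt F hF hft]
  rfl

theorem isClosed_support : IsClosed (CohB1.support F) := by
  rw [support_eq_fitt F hF hft]; exact Closeds.isClosed _

omit hft in
theorem support_subset_range {Z : Scheme.{u}} (i : Z ⟶ X) [IsClosedImmersion i] {G : Z.Modules}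
    (e : (Scheme.Modules.pushforward i).obj G ≅ F) : CohB1.support F ⊆ Set.range i := fun x hx => by
  by_contra hc
  exact LeadDev.notMem_support_push i G hc (LeadDev.support_subset_of_iso e.symm hx)

end Groth.Agent.LeadProper
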