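import Groth.Agent.LeadProper.Supp
import Groth.Agent.H10Coh.Proper2
import Groth.Agent.H10Coh.AffineLeray

/-!
# Higher direct images of modules supported on a closed subscheme
-/

set_option autoImplicit false
set_option linter.style.haveILetI false
set_option linter.unusedSectionVars false

universe u

open CategoryTheory CategoryTheory.Limits AlgebraicGeometry TopologicalSpace Opposite

namespace Groth.Agent.LeadProper

attribute [local instance 10000] H10Coh.hasSheafifyAb H10Coh.hasWeakSheafifyAb H10Coh.hasExtAb H10Coh.enoughInjAb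
attribute [local instance] H10Coh.enoughInjMod

variable {X S Z : Scheme.{u}} (f : X ⟶ S) (i : Z ⟶ X) [IsClosedImmersion i]

theorem epi_push_map_of_isClosedImmersion {M N : Z.Modules} (φ : M ⟶ N) [Epi φ] :
    Epi ((Coh.push i).map φ) := by
  haveI : Epi ((H10Coh.shF X).map ((Coh.push i).map φ)) :=
    H10Coh.epi_of_locally_surjective _ fun U t x hx => by
      by_cases hr : x ∈ Set.range i
      · obtain ⟨z, rfl⟩ := hr
        obtain ⟨V, hV, hzV, s, hs⟩ := H10Coh.exists_nhds_lift_of_epi φ (i ⁻¹ᵁ U) t z hx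
        obtain ⟨U', hU', hpre⟩ := i.isEmbedding.isInducing.isOpen_iff.1 V.2
        let W : X.Opens := U ⊓ ⟨U', hU'⟩
        have hWV : i ⁻¹ᵁ W ≤ V := fun a ha => hpre.le ha.2
        refine ⟨W, inf_le_left, ⟨hx, hpre.ge hzV⟩, M.presheaf.map (homOfLE hWV).op s, ?_⟩
        show φ.app (i ⁻¹ᵁ W) (M.presheaf.map (homOfLE hWV).op s) = _
        refine (congr($(φ.mapPresheaf.naturality (homOfLE hWV).op) s)).trans ?_
        show N.presheaf.map (homOfLE hWV).op (φ.app V s) = _
        rw [hs]
        refine (ConcreteCategory.comp_apply _ _ _).symm.trans ?_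
        exact congr($((N.presheaf.map_comp (homOfLE hV).op (homOfLE hWV).op).symm) t)
      · let W : X.Opens := U ⊓ ⟨(Set.range i)ᶜ, i.isClosedEmbedding.isClosed_range.isOpen_compl⟩
        have hW : i ⁻¹ᵁ W = ⊥ := Opens.ext (Set.eq_empty_iff_forall_notMem.2 fun z hz => hz.2 ⟨z, rfl⟩)
        haveI : Subsingleton Γ(Z, i ⁻¹ᵁ W) := by rw [hW]; infer_instance
        haveI : Subsingleton Γ(N, i ⁻¹ᵁ W) := Module.subsingleton Γ(Z, i ⁻¹ᵁ W) _
        exact ⟨W, inf_le_left, ⟨hx, hr⟩, 0, Subsingleton.elim (α := Γ(N, i ⁻¹ᵁ W)) _ _⟩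
  exact (H10Coh.shF X).epi_of_epi_map (inferInstance : Epi ((H10Coh.shF X).map ((Coh.push i).map φ)))

/-- Modules with flasque sheaves are acyclic for direct images. -/
theorem isAcyclic_pushforward [HasInjectiveResolutions X.Modules] (I : X.Modules)
    (hI : H10Coh.Flasque (H10Coh.sh I)) : H16Derived.AcyclicLES.IsAcyclic (Scheme.Modules.pushforward f) I := by
  intro k hk
  have h : IsZero (Coh.toAb ((Coh.Rpush f k).obj I)) :=
    IsZero.of_iso (H10Coh.isAcyclic_of_flasque f.base hI k hk) (H10Coh.nonempty_toAb_rpush f I k).some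
  rw [IsZero.iff_id_eq_zero]
  exact (H10Coh.shF S).map_injective (h.eq_of_src _ _)

theorem nonempty_rpush_push [HasInjectiveResolutions X.Modules] (G : Z.Modules) (p : ℕ) :
    Nonempty ((Coh.Rpush f p).obj ((Coh.push i).obj G) ≅ (Coh.Rpush (i ≫ f) p).obj G) := by
  have hp : ∀ (g : Z ⟶ S), PreservesFiniteLimits (Scheme.Modules.pushforward g) := fun g => by
    have : (Scheme.Modules.pushforward g).IsRightAdjoint :=
      (Scheme.Modules.pullbackPushforwardAdjunction g).isRightAdjoint
    infer_instance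
  have : (Scheme.Modules.pushforward f).IsRightAdjoint :=
    (Scheme.Modules.pullbackPushforwardAdjunction f).isRightAdjoint
  have : PreservesFiniteLimits (Scheme.Modules.pushforward f) := inferInstance
  have := hp (i ≫ f)
  cases p with
  | zero =>
    exact ⟨(Scheme.Modules.pushforward f).rightDerivedZeroIsoSelf.app _ ≪≫
      (Scheme.Modules.pushforwardComp i f).app G ≪≫
      ((Scheme.Modules.pushforward (i ≫ f)).rightDerivedZeroIsoSelf.app G).symm⟩
  | succ n =>
    have : (Scheme.Modules.pushforward i).IsRightAdjoint :=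
      (Scheme.Modules.pullbackPushforwardAdjunction i).isRightAdjoint
    have : PreservesFiniteLimits (Scheme.Modules.pushforward i) := inferInstance
    have e1 := H10Coh.nonempty_rightDerived_of_chain (Scheme.Modules.pushforward f) n
      (fun k => (Coh.push i).obj (H10Coh.mZ G k)) (fun k => (Coh.push i).obj (H10Coh.mI G k))
      (fun k => (Coh.push i).map (H10Coh.mi G k)) (fun k => (Coh.push i).map (H10Coh.mp G k))
      (fun k => by rw [← Functor.map_comp, H10Coh.mi_mp, Functor.map_zero])
      (fun k => H16Derived.AcyclicLES.shortExact_map_of_epi (Scheme.Modules.pushforward i) (H10Coh.shortExact_mZ G k)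
        (haveI := (H10Coh.shortExact_mZ G k).epi_g; epi_push_map_of_isClosedImmersion i (H10Coh.mp G k)))
      (fun k => isAcyclic_pushforward f _
        (H10Coh.flasque_push i.base (@H10Coh.flasque_sh_of_injective _ _ (H10Coh.injective_mI G k))))
    have e2 := H10Coh.nonempty_rightDerived_of_chain (Scheme.Modules.pushforward (i ≫ f)) n
      (H10Coh.mZ G) (H10Coh.mI G) (H10Coh.mi G) (H10Coh.mp G) (H10Coh.mi_mp G) (H10Coh.shortExact_mZ G)
      (fun k => @H16Derived.AcyclicLES.isAcyclic_of_injective _ _ _ _ _ _ (Scheme.Modules.pushforward (i ≫ f))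
        _ _ _ (H10Coh.mI G k) (H10Coh.injective_mI G k))
    refine ⟨e1.some ≪≫ cokernel.mapIso _ _ ((Scheme.Modules.pushforwardComp i f).app _)
      ((Scheme.Modules.pushforwardComp i f).app _) ?_ ≪≫ e2.some.symm⟩
    exact (Scheme.Modules.pushforwardComp i f).hom.naturality (H10Coh.mp G n)

end Groth.Agent.LeadProper
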