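import Groth.Agent.H17.Separated
import Groth.Agent.H17.Image
import Groth.Agent.H17.Reduced
import Groth.Prelude.Def_ClSub2

/-!
# Closed subsets proper over a base
-/

set_option autoImplicit false
set_option linter.style.haveILetI false

universe u

open CategoryTheory CategoryTheory.Limits AlgebraicGeometry TopologicalSpace

namespace Groth.Agent.LeadProper

variable {X Y S : Scheme.{u}}

/-- Universal closedness descends along jointly surjective families (finitely many members). -/
theorem universallyClosed_of_family {W : Scheme.{u}} (q : W ⟶ S) {ι : Type*} [Finite ι] {T : ι → Scheme.{u}}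
    (t : ∀ k, T k ⟶ W) (hsurj : ∀ w : W, ∃ k, w ∈ Set.range (t k))
    (h : ∀ k, UniversallyClosed (t k ≫ q)) : UniversallyClosed q := by
  constructor
  intro W' S' i₁ i₂ f' H C hC
  let sq := fun k => (IsPullback.of_hasPullback i₁ (t k)).paste_horiz H
  have hcl : ∀ k, IsClosedMap (pullback.fst i₁ (t k) ≫ f') := fun k =>
    (h k).universally_isClosedMap _ _ _ (sq k)
  have himg : f' '' C = ⋃ k, (pullback.fst i₁ (t k) ≫ f') '' (pullback.fst i₁ (t k) ⁻¹' C) := by
    ext s
    simp only [Set.mem_image, Set.mem_iUnion, Set.mem_preimage]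
    constructor
    · rintro ⟨w, hw, rfl⟩
      obtain ⟨k, a, ha⟩ := hsurj (i₁ w)
      obtain ⟨p, hp, -⟩ := Scheme.Pullback.exists_preimage_pullback (f := i₁) (g := t k) w a ha.symm
      exact ⟨k, p, by rw [hp]; exact hw, by rw [Scheme.Hom.comp_apply, hp]⟩
    · rintro ⟨k, p, hp, rfl⟩
      exact ⟨_, hp, rfl⟩
  show IsClosed (f' '' C)
  rw [himg]
  exact isClosed_iUnion_of_finite fun k => hcl k _ (hC.preimage (Scheme.Hom.continuous _))

/-- Properness of the reduced structure on a closed subset, detected by any closed subscheme on it. -/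
theorem isProperOver_iff (f : X ⟶ S) [LocallyOfFiniteType f] {T : Scheme.{u}} (i : T ⟶ X) [IsClosedImmersion i]
    {Z : Set X} (hr : Set.range i = Z) : ClSub.IsProperOver f Z ↔ IsProper (i ≫ f) := by
  have hZ : IsClosed Z := hr ▸ i.isClosedEmbedding.isClosed_range
  set iW := (Scheme.IdealSheafData.vanishingIdeal ⟨Z, hZ⟩).subschemeι with hiW
  have hle : i.ker ≤ iW.ker := by
    rw [hiW, Scheme.IdealSheafData.ker_subschemeι, ← Scheme.IdealSheafData.le_support_iff_le_vanishingIdeal]
    intro x hx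
    exact i.range_subset_ker_support (hr.ge hx)
  let w := IsClosedImmersion.lift i iW hle
  have hw : w ≫ i = iW := IsClosedImmersion.lift_fac _ _ _
  haveI : IsClosedImmersion (w ≫ i) := hw ▸ inferInstance
  haveI : IsClosedImmersion w := IsClosedImmersion.of_comp w i
  haveI : Surjective w := by
    refine ⟨fun p => ?_⟩
    obtain ⟨t, ht⟩ := (H17.range_vanishingIdeal_subschemeι ⟨Z, hZ⟩).ge (show i p ∈ Z from hr ▸ ⟨p, rfl⟩)
    exact ⟨t, i.isClosedEmbedding.injective (by rw [← Scheme.Hom.comp_apply, hw]; exact ht)⟩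
  constructor
  · rintro ⟨_, hp⟩
    haveI : IsProper (w ≫ i ≫ f) := by rw [← Category.assoc, hw]; exact hp
    haveI : UniversallyClosed (i ≫ f) := UniversallyClosed.of_comp_surjective w _
    haveI : IsSeparated (i ≫ f) := H17.isSeparated_of_surjective_universallyClosed w _
    exact ⟨⟩
  · intro hp
    refine ⟨hZ, ?_⟩
    show IsProper (iW ≫ f)
    rw [← hw, Category.assoc]
    infer_instance

theorem exists_closedSubscheme {f : X ⟶ S} {Z : Set X} (h : ClSub.IsProperOver f Z) :
    ∃ (T : Scheme.{u}) (i : T ⟶ X), IsClosedImmersion i ∧ Set.range i = Z ∧ IsProper (i ≫ f) ∧ IsReduced T :=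
  ⟨_, _, inferInstance, H17.range_vanishingIdeal_subschemeι ⟨Z, h.1⟩, h.2,
    H17.isReduced_vanishingIdeal_subscheme _⟩

theorem isProperOver_mono {f : X ⟶ S} [LocallyOfFiniteType f] {Z Z' : Set X} (h : ClSub.IsProperOver f Z)
    (hc : IsClosed Z') (hsub : Z' ⊆ Z) : ClSub.IsProperOver f Z' := by
  obtain ⟨T, i, hi, hr, hp, -⟩ := exists_closedSubscheme h
  let V : T.IdealSheafData := Scheme.IdealSheafData.vanishingIdeal ⟨i ⁻¹' Z', hc.preimage i.continuous⟩
  haveI : IsProper (i ≫ f) := hp
  refine (isProperOver_iff f (V.subschemeι ≫ i) ?_).2 (by rw [Category.assoc]; infer_instance)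
  rw [show Set.range (V.subschemeι ≫ i) = i '' Set.range V.subschemeι from by
    rw [← Set.range_comp]; rfl, H17.range_vanishingIdeal_subschemeι]
  exact Set.image_preimage_eq_of_subset (hr ▸ hsub)

/-- The image of a proper closed subset under a morphism closed on it. -/
theorem isProperOver_image {p : X ⟶ S} (q : Y ⟶ S) [LocallyOfFiniteType q] (f : X ⟶ Y) (w : f ≫ q = p)
    {Z : Set X} (h : ClSub.IsProperOver p Z)
    (huc : ∀ (T : Scheme.{u}) (i : T ⟶ X), IsClosedImmersion i → IsProper (i ≫ p) → UniversallyClosed (i ≫ f)) :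
    ClSub.IsProperOver q (f '' Z) := by
  obtain ⟨T, i, hi, hr, hp, hT⟩ := exists_closedSubscheme h
  haveI := hT
  haveI : UniversallyClosed (i ≫ f) := huc T i hi hp
  have himg : Set.range (i ≫ f) = f '' Z := by
    rw [← hr, ← Set.range_comp]; rfl
  have hc : IsClosed (f '' Z) := himg ▸ (i ≫ f).isClosedMap.isClosed_range
  let iW := (Scheme.IdealSheafData.vanishingIdeal ⟨f '' Z, hc⟩).subschemeι
  obtain ⟨g, hg⟩ := H17.exists_lift_of_range_subset (i ≫ f) iW
    ((himg.le).trans (H17.range_vanishingIdeal_subschemeι ⟨f '' Z, hc⟩).ge)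
  haveI : UniversallyClosed (g ≫ iW) := by rw [hg]; infer_instance
  haveI : UniversallyClosed g := MorphismProperty.of_postcomp (W := @UniversallyClosed) (W' := @IsSeparated) g iW
    inferInstance ‹_›
  haveI : Surjective g := by
    refine ⟨fun t => ?_⟩
    have ht : iW t ∈ Set.range (i ≫ f) := himg.ge ((H17.range_vanishingIdeal_subschemeι ⟨f '' Z, hc⟩).le ⟨t, rfl⟩)
    obtain ⟨a, ha⟩ := ht
    exact ⟨a, iW.isClosedEmbedding.injective (by rw [← Scheme.Hom.comp_apply, hg, ha])⟩
  have hgp : g ≫ iW ≫ q = i ≫ p := by rw [← Category.assoc, hg, Category.assoc, w]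
  haveI : IsProper (g ≫ iW ≫ q) := by rw [hgp]; exact hp
  haveI : UniversallyClosed (iW ≫ q) := UniversallyClosed.of_comp_surjective g _
  haveI : IsSeparated (iW ≫ q) := H17.isSeparated_of_surjective_universallyClosed g _
  exact ⟨hc, ⟨⟩⟩

theorem isProperOver_preimage {p : X ⟶ S} {q : Y ⟶ S} [LocallyOfFiniteType p] (f : X ⟶ Y) [IsProper f]
    (w : f ≫ q = p) {Z : Set Y} (h : ClSub.IsProperOver q Z) : ClSub.IsProperOver p (f ⁻¹' Z) := by
  obtain ⟨T, i, hi, hr, hp, -⟩ := exists_closedSubscheme h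
  haveI : IsProper (i ≫ q) := hp
  haveI : IsClosedImmersion (pullback.fst f i) := inferInstance
  have hr' : Set.range (pullback.fst f i) = f ⁻¹' Z := by
    rw [Scheme.Pullback.range_fst, hr]
  refine (isProperOver_iff p (pullback.fst f i) hr').2 ?_
  rw [← w, pullback.condition_assoc]
  infer_instance

theorem exists_cover {W : Scheme.{u}} (iW : W ⟶ X) [IsClosedImmersion iW] {ι : Type*} {T : ι → Scheme.{u}}
    (g : ∀ k, T k ⟶ W) {i : ∀ k, T k ⟶ X} (hg : ∀ k, g k ≫ iW = i k) (Z : ι → Set X)
    (hr : ∀ k, Set.range (i k) = Z k) (hW : Set.range iW = Set.iUnion Z) (w : W) :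
    ∃ k, w ∈ Set.range (g k) := by
  obtain ⟨k, hk⟩ := Set.mem_iUnion.1 (hW.le ⟨w, rfl⟩)
  obtain ⟨a, ha⟩ := (hr k).ge hk
  exact ⟨k, a, iW.isClosedEmbedding.injective (by rw [← Scheme.Hom.comp_apply, hg, ha])⟩

/-- Separatedness descends along jointly surjective universally closed families (finitely many members). -/
theorem isSeparated_of_family {W : Scheme.{u}} (q : W ⟶ S) {ι : Type*} [Finite ι] {T : ι → Scheme.{u}}
    (t : ∀ k, T k ⟶ W) (hsurj : ∀ w : W, ∃ k, w ∈ Set.range (t k))
    (ht : ∀ k, UniversallyClosed (t k)) (h : ∀ k, IsSeparated (t k ≫ q)) : IsSeparated q := by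
  let m := fun k => pullback.map (t k ≫ q) (t k ≫ q) q q (t k) (t k) (𝟙 S) (Category.comp_id _) (Category.comp_id _)
  have hm : ∀ k, UniversallyClosed (m k) := fun k =>
    MorphismProperty.pullbackMap (P := @UniversallyClosed) (ht k) (ht k) rfl rfl
  have hcomm : ∀ k, t k ≫ pullback.diagonal q = pullback.diagonal (t k ≫ q) ≫ m k := fun k => by
    apply pullback.hom_ext <;> simp only [m, Category.assoc, pullback.map, pullback.lift_fst, pullback.lift_snd,
      pullback.diagonal_fst_assoc, pullback.diagonal_snd_assoc, pullback.diagonal_fst, pullback.diagonal_snd,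
      Category.comp_id]
  have hr : Set.range (pullback.diagonal q) = ⋃ k, m k '' Set.range (pullback.diagonal (t k ≫ q)) := by
    ext z
    simp only [Set.mem_iUnion, Set.mem_range, Set.mem_image]
    constructor
    · rintro ⟨w, rfl⟩
      obtain ⟨k, a, rfl⟩ := hsurj w
      exact ⟨k, _, ⟨a, rfl⟩, by rw [← Scheme.Hom.comp_apply, ← hcomm, Scheme.Hom.comp_apply]⟩
    · rintro ⟨k, _, ⟨a, rfl⟩, rfl⟩
      exact ⟨t k a, by rw [← Scheme.Hom.comp_apply, hcomm, Scheme.Hom.comp_apply]⟩
  refine ⟨IsClosedImmersion.of_isPreimmersion _ ?_⟩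
  rw [hr]
  refine isClosed_iUnion_of_finite fun k => ?_
  haveI := hm k
  haveI := h k
  exact (m k).isClosedMap _ (pullback.diagonal (t k ≫ q)).isClosedEmbedding.isClosed_range

theorem isProperOver_iUnion (f : X ⟶ S) [LocallyOfFiniteType f] {ι : Type*} [Finite ι] (Z : ι → Set X)
    (hZ : ∀ k, ClSub.IsProperOver f (Z k)) : ClSub.IsProperOver f (Set.iUnion Z) := by
  have hc : IsClosed (Set.iUnion Z) := isClosed_iUnion_of_finite fun k => (hZ k).1
  choose T i hi hr hp hT using fun k => exists_closedSubscheme (hZ k)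
  let iW := (Scheme.IdealSheafData.vanishingIdeal ⟨Set.iUnion Z, hc⟩).subschemeι
  choose g hg using fun k => (haveI := hT k; haveI := hi k
    H17.exists_lift_of_range_subset (i k) iW (by
      rw [H17.range_vanishingIdeal_subschemeι, hr]; exact Set.subset_iUnion Z k))
  refine ⟨hc, ?_⟩
  show IsProper (iW ≫ f)
  have hcov := exists_cover iW g hg Z hr (H17.range_vanishingIdeal_subschemeι ⟨Set.iUnion Z, hc⟩)
  haveI : UniversallyClosed (iW ≫ f) := universallyClosed_of_family (iW ≫ f) g hcov fun k => by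
    haveI := hp k
    rw [← Category.assoc, hg]; infer_instance
  haveI : IsSeparated (iW ≫ f) := isSeparated_of_family (iW ≫ f) g hcov
    (fun k => by
      haveI : IsClosedImmersion (g k ≫ iW) := by rw [hg]; exact hi k
      haveI := IsClosedImmersion.of_comp (g k) iW
      infer_instance)
    fun k => by
      haveI := hp k
      rw [← Category.assoc, hg]; infer_instance
  exact ⟨⟩

end Groth.Agent.LeadProper
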